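import Mathlib
import Groth.Prelude.Def_Coh
import Groth.Prelude.Def_DerSch
import Groth.Agent.H4.SPt6
import Groth.Agent.Lib.Lead.Ann.SmulEnd

set_option autoImplicit false
universe u
open CategoryTheory CategoryTheory.Limits AlgebraicGeometry TopologicalSpace Opposite

namespace Groth.Agent.H5.Eig

open Groth.Agent.LD

variable {X : Scheme.{u}} {K : Type u} [Field K] [IsAlgClosed K]
    (f : X ⟶ Spec (.of K)) [LocallyOfFiniteType f] (x : X) (hx : IsClosed ({x} : Set X))

/-- the constant-function map `K → κ(x)`. -/
noncomputable def constRes : K →+* X.residueField x :=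
  (X.residue x).hom.comp ((X.presheaf.germ ⊤ x trivial).hom.comp (Coh.toGlobal f))

include hx in
theorem constRes_eq : constRes f x = (residueFieldIsoBase f x hx).inv.hom := by
  have h : CommRingCat.ofHom (constRes f x) = (residueFieldIsoBase f x hx).inv := by
    apply Spec.map_injective
    rw [SpecMap_residueFieldIsoBase_inv]
    have h1 : CommRingCat.ofHom (constRes f x) =
        (Scheme.ΓSpecIso (CommRingCat.of K)).inv ≫ f.appTop ≫ X.presheaf.germ ⊤ x trivial ≫
          X.residue x := rfl
    rw [h1, Spec.map_comp, Spec.map_comp, Spec.map_comp, ← Scheme.fromSpecStalk_toSpecΓ]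
    have h2 : X.fromSpecResidueField x = Spec.map (X.residue x) ≫ X.fromSpecStalk x := rfl
    have h3 : f = X.toSpecΓ ≫ Spec.map f.appTop ≫ Spec.map (Scheme.ΓSpecIso (CommRingCat.of K)).inv := by
      rw [← Scheme.toSpecΓ_naturality_assoc, toSpecΓ_SpecMap_ΓSpecIso_inv, Category.comp_id]
    rw [h2, Category.assoc, Category.assoc, Category.assoc]
    conv_rhs => rw [h3]
    simp only [Category.assoc]
  rw [← h]
  rfl

include hx in
theorem constRes_bijective : Function.Bijective (constRes f x) := by
  rw [constRes_eq f x hx]
  exact (ConcreteCategory.isIso_iff_bijective _).1 inferInstance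

end Groth.Agent.H5.Eig
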