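import Mathlib
import Groth.Agent.Lib.Helper5.Eig.Eig1
import Groth.Agent.Lib.Lead.QC.Stalk

set_option autoImplicit false
universe u
open CategoryTheory CategoryTheory.Limits AlgebraicGeometry TopologicalSpace Opposite

namespace Groth.Agent.H5.Eig

open Groth.Agent.LD Groth.Agent.LD.QC

section Gen
variable {X : Scheme.{u}} (x : X)

/-- the stalk map of multiplication by a global function is multiplication by its germ. -/
theorem stalk_smulEnd (E : X.Modules) (a : Γ(X, ⊤)) (m : E.presheaf.stalk x) :
    ((DerSch.stalkFunctor X x).map (Ann.smulEnd E a)).hom m =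
      (X.presheaf.germ ⊤ x trivial a) • m := by
  obtain ⟨U, hxU, s, rfl⟩ := E.presheaf.exists_germ_eq (x := x) m
  have h1 := DerSch.stalkFunctor_map_germ x (Ann.smulEnd E a) U hxU s
  refine h1.trans ?_
  rw [Ann.smulEnd_app, germ_smul]
  congr 1
  exact X.presheaf.germ_res_apply (homOfLE (le_top : U ≤ ⊤)) x hxU a

end Gen

variable {X : Scheme.{u}} {K : Type u} [Field K] [IsAlgClosed K]
    (f : X ⟶ Spec (.of K)) [LocallyOfFiniteType f] (x : X) (hx : IsClosed ({x} : Set X))

include hx in
/-- **eigenvalue lemma**: every endomorphism of a module whose stalk at a closed point is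
free of positive finite rank has an "eigenvalue" in the algebraically closed base field. -/
theorem exists_not_isIso_sub_smul (E : X.Modules)
    [Module.Free (X.presheaf.stalk x) (E.presheaf.stalk x)]
    [Module.Finite (X.presheaf.stalk x) (E.presheaf.stalk x)]
    (hr : 0 < Module.finrank (X.presheaf.stalk x) (E.presheaf.stalk x))
    (φ : E ⟶ E) : ∃ c : K, ¬ IsIso (φ - Ann.smulEnd E (Coh.toGlobal f c)) := by
  classical
  let R := X.presheaf.stalk x
  let M := E.presheaf.stalk x
  let Φ := DerSch.stalkFunctor X x
  let g : M →ₗ[R] M := (Φ.map φ).hom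
  have hbij := constRes_bijective f x hx
  haveI : IsAlgClosed (X.residueField x) :=
    IsAlgClosed.of_ringEquiv K _ (RingEquiv.ofBijective (constRes f x) hbij)
  let ρ : R →+* X.residueField x := (X.residue x).hom
  let q := g.charpoly.map ρ
  have hq : q.degree ≠ 0 := by
    have hm : q.Monic := (LinearMap.charpoly_monic g).map ρ
    have hd : q.natDegree = Module.finrank R M := by
      rw [(LinearMap.charpoly_monic g).natDegree_map, LinearMap.charpoly_natDegree]
    rw [Polynomial.degree_eq_natDegree hm.ne_zero, hd]
    exact_mod_cast hr.ne'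
  obtain ⟨lam, hlam⟩ := IsAlgClosed.exists_root q hq
  obtain ⟨c, hc⟩ := hbij.2 lam
  refine ⟨c, fun hiso => ?_⟩
  let c' : R := X.presheaf.germ ⊤ x trivial (Coh.toGlobal f c)
  have hc' : ρ c' = lam := hc
  have h0 : ρ (g.charpoly.eval c') = 0 := by
    rw [← hlam, ← hc', Polynomial.eval_map, Polynomial.eval₂_at_apply]
  have hnu : ¬ IsUnit (g.charpoly.eval c') := by
    intro hu
    have := hu.map ρ
    rw [h0] at this
    exact not_isUnit_zero this
  apply hnu
  rw [LinearMap.eval_charpoly]
  haveI : IsIso (Φ.map (φ - Ann.smulEnd E (Coh.toGlobal f c))) := inferInstance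
  let sm : M →ₗ[R] M := (Φ.map (Ann.smulEnd E (Coh.toGlobal f c))).hom
  have hsm : sm = algebraMap R (Module.End R M) c' := by
    ext m
    exact stalk_smulEnd x E _ m
  have hmap : (Φ.map (φ - Ann.smulEnd E (Coh.toGlobal f c))).hom = g - algebraMap R (Module.End R M) c' := by
    rw [Functor.map_sub, ← hsm]
    rfl
  have hunit : IsUnit (g - algebraMap R (Module.End R M) c') := by
    rw [← hmap]
    have hb : Function.Bijective (Φ.map (φ - Ann.smulEnd E (Coh.toGlobal f c))).hom :=
      (ConcreteCategory.isIso_iff_bijective _).1 inferInstance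
    exact (Module.End.isUnit_iff _).mpr hb
  have h2 : algebraMap R (Module.End R M) c' - g = -(g - algebraMap R (Module.End R M) c') := by
    abel
  rw [h2]
  exact LinearMap.isUnit_det _ hunit.neg

end Groth.Agent.H5.Eig
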