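import Mathlib
import Groth.Agent.Lib.Helper5.Eig.Eig2
import Groth.Agent.Lib.Helper5.Curve4.VB5

set_option autoImplicit false
universe u
open CategoryTheory CategoryTheory.Limits AlgebraicGeometry TopologicalSpace Opposite

namespace Groth.Agent.H5.Eig

open Groth.Agent.LD Groth.Agent.LD.QC Groth.Agent.H5.Curve4

variable (k : Type u) [Field k] [IsAlgClosed k] (X : Scheme.{u}) [X.Over (Spec (CommRingCat.of k))]
  [IsProper (X ↘ Spec (CommRingCat.of k))]

/-- every endomorphism of a vector bundle of positive rank on a proper scheme over an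
algebraically closed field has an eigenvalue. -/
theorem exists_eigen [Nonempty X] (r : ℕ) (hr : 0 < r) {E : X.Modules}
    (hE : FlatMod.IsFinLocFreeOfRank r E) (φ : E ⟶ E) :
    ∃ c : k, ¬ IsIso (φ - Ann.smulEnd E (Coh.toGlobal (X ↘ Spec (CommRingCat.of k)) c)) := by
  haveI : CompactSpace X := Curve.compactSpace k X
  obtain ⟨x, -, hx⟩ := IsClosed.exists_closed_singleton (S := (Set.univ : Set X)) isClosed_univ
    Set.univ_nonempty
  obtain ⟨f1, fin1, rk1⟩ := Groth.Agent.H4.LFP1.stalk_of_isFinLocFreeOfRank r E hE x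
  haveI := f1
  haveI := fin1
  exact exists_not_isIso_sub_smul (X ↘ Spec (CommRingCat.of k)) x hx E (by rw [rk1]; exact hr) φ

variable [Smooth (X ↘ Spec (CommRingCat.of k))] [IsIntegral X]

/-- **a stable bundle is simple**. -/
theorem endo_scalar_of_stable (hdim : topologicalKrullDim X ≤ 1) (r : ℕ) (hr : 0 < r)
    {E : X.Modules} (hE : FlatMod.IsFinLocFreeOfRank r E)
    (hst : ModFun.IsSlopeStable k X E r) (φ : E ⟶ E) :
    ∃ c : k, φ = Ann.smulEnd E (Coh.toGlobal (X ↘ Spec (CommRingCat.of k)) c) := by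
  obtain ⟨c, hc⟩ := exists_eigen k X r hr hE φ
  refine ⟨c, ?_⟩
  by_contra hne
  exact hc (isIso_of_ne_zero_of_stable k X hdim r hE hst _ (sub_ne_zero.mpr hne))

end Groth.Agent.H5.Eig
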