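import Mathlib
import Groth.Agent.Lib.Helper5.Eig.Eig3
import Groth.Agent.Lib.Helper5.Curve4.Rk2

set_option autoImplicit false
universe u
open CategoryTheory CategoryTheory.Limits AlgebraicGeometry TopologicalSpace Opposite

namespace Groth.Agent.H5.Eig

open Groth.Agent.LD Groth.Agent.LD.QC Groth.Agent.H5.Curve4

section Gen
variable {X : Scheme.{u}}

lemma smulEnd_one (M : X.Modules) : Ann.smulEnd M 1 = 𝟙 M := by
  apply (SC.toAbF X).map_injective
  rw [(SC.toAbF X).map_id]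
  exact Coh.smulAb_one M

lemma smulEnd_zero (M : X.Modules) : Ann.smulEnd M 0 = 0 := by
  apply (SC.toAbF X).map_injective
  rw [(SC.toAbF X).map_zero]
  exact Coh.smulAb_zero M

end Gen

variable (k : Type u) [Field k] (X : Scheme.{u}) [X.Over (Spec (CommRingCat.of k))]

/-- the scalar endomorphism. -/
noncomputable def sc (M : X.Modules) (c : k) : M ⟶ M :=
  Ann.smulEnd M (Coh.toGlobal (X ↘ Spec (CommRingCat.of k)) c)

lemma sc_def (M : X.Modules) (c : k) :
    sc k X M c = Ann.smulEnd M (Coh.toGlobal (X ↘ Spec (CommRingCat.of k)) c) := rfl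

lemma toSheaf_map_sc (M : X.Modules) (c : k) :
    (SheafOfModules.toSheaf X.ringCatSheaf).map (sc k X M c) =
      Coh.smulAb M (Coh.toGlobal (X ↘ Spec (CommRingCat.of k)) c) := rfl

lemma sc_one (M : X.Modules) : sc k X M 1 = 𝟙 M := by
  rw [sc_def, map_one]; exact smulEnd_one M

lemma sc_zero (M : X.Modules) : sc k X M 0 = 0 := by
  rw [sc_def, map_zero]; exact smulEnd_zero M

lemma sc_mul (M : X.Modules) (a b : k) : sc k X M (a * b) = sc k X M b ≫ sc k X M a := by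
  rw [sc_def, map_mul]; exact Ann.smulEnd_mul M _ _

@[reassoc]
lemma sc_naturality {M N : X.Modules} (φ : M ⟶ N) (c : k) :
    sc k X M c ≫ φ = φ ≫ sc k X N c := Ann.smulEnd_naturality φ _

lemma sc_inv_comp (M : X.Modules) (c : k) (hc : c ≠ 0) : sc k X M c⁻¹ ≫ sc k X M c = 𝟙 M := by
  rw [← sc_mul, mul_inv_cancel₀ hc, sc_one]


variable [IsAlgClosed k] [IsProper (X ↘ Spec (CommRingCat.of k))]
  [Smooth (X ↘ Spec (CommRingCat.of k))] [IsIntegral X]

/-- endomorphisms of an invertible module are scalars. -/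
theorem endo_scalar_of_isInvertible (hdim : topologicalKrullDim X ≤ 1) {L : X.Modules}
    (hL : PicF.IsInvertible L) (a : L ⟶ L) : ∃ c : k, a = sc k X L c :=
  endo_scalar_of_stable k X hdim 1 Nat.one_pos ((isInvertible_iff _).mp hL)
    (fun F r' i _ h1 h2 _ => by omega) a

/-- **S11818**: a non-split extension of `M` by `L` with `deg M < deg L` and `Hom(M, L) = 0`
is simple. -/
theorem simple_of_nonsplit (hdim : topologicalKrullDim X ≤ 1)
    (S : ShortComplex X.Modules) (hS : S.ShortExact)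
    (hL : PicF.IsInvertible S.X₁) (hM : PicF.IsInvertible S.X₃)
    (hdeg : Curv2.deg k X S.X₃ 1 < Curv2.deg k X S.X₁ 1)
    (hhom : ∀ g : S.X₃ ⟶ S.X₁, g = 0) (hns : ¬ IsSplitEpi S.g)
    (φ : S.X₂ ⟶ S.X₂) : ∃ c : k, φ = sc k X S.X₂ c := by
  haveI := hS.mono_f
  haveI := hS.epi_g
  have h1 : (S.f ≫ φ) ≫ S.g = 0 := by
    by_contra hne
    have := (Curve.deg_le_of_ne_zero k X hdim hL hM _ hne).1
    omega
  let a : S.X₁ ⟶ S.X₁ := hS.exact.lift (S.f ≫ φ) h1
  have ha : a ≫ S.f = S.f ≫ φ := ShortComplex.Exact.lift_f _ _ _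
  obtain ⟨c, hc⟩ := endo_scalar_of_isInvertible k X hdim hL a
  refine ⟨c, ?_⟩
  let ψ : S.X₂ ⟶ S.X₂ := φ - sc k X S.X₂ c
  have hψ : S.f ≫ ψ = 0 := by
    change S.f ≫ (φ - sc k X S.X₂ c) = 0
    rw [Preadditive.comp_sub, ← ha, hc, sc_naturality, sub_self]
  let t : S.X₃ ⟶ S.X₂ := hS.exact.desc ψ hψ
  have ht : S.g ≫ t = ψ := ShortComplex.Exact.g_desc _ _ _
  obtain ⟨b, hb⟩ := endo_scalar_of_isInvertible k X hdim hM (t ≫ S.g)
  have hb0 : b = 0 := by
    by_contra hne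
    apply hns
    refine ⟨⟨sc k X S.X₃ b⁻¹ ≫ t, ?_⟩⟩
    rw [Category.assoc, hb, sc_inv_comp k X _ b hne]
  rw [hb0, sc_zero] at hb
  let w : S.X₃ ⟶ S.X₁ := hS.exact.lift t hb
  have hw : w ≫ S.f = t := ShortComplex.Exact.lift_f _ _ _
  have ht0 : t = 0 := by rw [← hw, hhom w, zero_comp]
  have hψ0 : ψ = 0 := by rw [← ht, ht0, comp_zero]
  exact sub_eq_zero.mp hψ0

end Groth.Agent.H5.Eig
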