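import Mathlib
import Groth.Agent.Lib.Helper5.Eig.Eig4

set_option autoImplicit false
universe u
open CategoryTheory CategoryTheory.Limits AlgebraicGeometry TopologicalSpace Opposite

namespace Groth.Agent.H5.Eig

open Groth.Agent.LD Groth.Agent.LD.QC Groth.Agent.H5.Curve4

section Abstract
variable {C : Type*} [Category C] [Preadditive C] [HasBinaryBiproducts C]

/-- an object all of whose idempotents are trivial has no nontrivial decomposition. -/
theorem indecomposable_of_idem_trivial {E : C}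
    (h : ∀ π : E ⟶ E, π ≫ π = π → π = 0 ∨ π = 𝟙 E) (E₁ E₂ : C) (e : E ≅ E₁ ⊞ E₂) :
    IsZero E₁ ∨ IsZero E₂ := by
  let π' : E₁ ⊞ E₂ ⟶ E₁ ⊞ E₂ := biprod.fst ≫ biprod.inl
  let π : E ⟶ E := e.hom ≫ π' ≫ e.inv
  have hπ' : π' ≫ π' = π' := by
    change (biprod.fst ≫ biprod.inl) ≫ biprod.fst ≫ biprod.inl = biprod.fst ≫ biprod.inl
    simp
  have hπ : π ≫ π = π := by
    change (e.hom ≫ π' ≫ e.inv) ≫ e.hom ≫ π' ≫ e.inv = e.hom ≫ π' ≫ e.inv
    simp only [Category.assoc, Iso.inv_hom_id_assoc]
    rw [reassoc_of% hπ']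
  have hπ'eq : π' = e.inv ≫ π ≫ e.hom := by
    change π' = e.inv ≫ (e.hom ≫ π' ≫ e.inv) ≫ e.hom
    simp
  rcases h π hπ with h0 | h1
  · left
    rw [IsZero.iff_id_eq_zero]
    have : π' = 0 := by rw [hπ'eq, h0]; simp
    calc 𝟙 E₁ = biprod.inl ≫ π' ≫ biprod.fst := by
          change 𝟙 E₁ = biprod.inl ≫ (biprod.fst ≫ biprod.inl) ≫ biprod.fst
          simp
      _ = 0 := by rw [this]; simp
  · right
    rw [IsZero.iff_id_eq_zero]
    have : π' = 𝟙 _ := by rw [hπ'eq, h1]; simp
    calc 𝟙 E₂ = biprod.inr ≫ π' ≫ biprod.snd := by rw [this]; simp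
      _ = 0 := by
          change biprod.inr ≫ (biprod.fst ≫ biprod.inl) ≫ biprod.snd = 0
          simp

end Abstract

section Gen
variable {X : Scheme.{u}}

lemma smulEnd_add (M : X.Modules) (r s : Γ(X, ⊤)) :
    Ann.smulEnd M (r + s) = Ann.smulEnd M r + Ann.smulEnd M s := by
  apply (SC.toAbF X).map_injective
  rw [(SC.toAbF X).map_add]
  exact Coh.smulAb_add M _ _

end Gen

variable (k : Type u) [Field k] (X : Scheme.{u}) [X.Over (Spec (CommRingCat.of k))]

lemma sc_add (M : X.Modules) (a b : k) : sc k X M (a + b) = sc k X M a + sc k X M b := by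
  rw [sc_def, map_add]; exact smulEnd_add M _ _

lemma sc_neg (M : X.Modules) (a : k) : sc k X M (-a) = - sc k X M a := by
  have h := sc_add k X M a (-a)
  rw [add_neg_cancel, sc_zero] at h
  exact (neg_eq_of_add_eq_zero_right h.symm).symm

lemma sc_sub (M : X.Modules) (a b : k) : sc k X M (a - b) = sc k X M a - sc k X M b := by
  rw [sub_eq_add_neg, sc_add, sc_neg, sub_eq_add_neg]

lemma eq_zero_of_sc_eq_zero {M : X.Modules} (hM : ¬ IsZero M) {c : k} (h : sc k X M c = 0) :
    c = 0 := by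
  by_contra hc
  apply hM
  rw [IsZero.iff_id_eq_zero, ← sc_inv_comp k X M c hc, h, comp_zero]

lemma sc_injective {M : X.Modules} (hM : ¬ IsZero M) {a b : k} (h : sc k X M a = sc k X M b) :
    a = b := by
  have : sc k X M (a - b) = 0 := by rw [sc_sub, h, sub_self]
  exact sub_eq_zero.mp (eq_zero_of_sc_eq_zero k X hM this)

/-- an endomorphism of the form `a + n` with `n` square-zero which is idempotent is `0` or `1`. -/
theorem idem_trivial_of_structure {E : X.Modules} (hE : ¬ IsZero E) (π : E ⟶ E)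
    (a : k) (n : E ⟶ E) (hn : n ≫ n = 0) (hπ : π = sc k X E a + n) (hidem : π ≫ π = π) :
    π = 0 ∨ π = 𝟙 E := by
  have hcomm : ∀ c : k, n ≫ sc k X E c = sc k X E c ≫ n := fun c => (sc_naturality k X n c).symm
  -- expand the idempotent equation
  have h1 : sc k X E (a * a - a) + sc k X E (2 * a - 1) ≫ n = 0 := by
    have h2 : (sc k X E a + n) ≫ (sc k X E a + n) = sc k X E a + n := by rw [← hπ]; exact hidem
    rw [Preadditive.add_comp, Preadditive.comp_add, Preadditive.comp_add, hn, add_zero,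
      hcomm a, ← sc_mul] at h2
    rw [sc_sub, sc_sub, Preadditive.sub_comp, sc_one, Category.id_comp, two_mul, sc_add,
      Preadditive.add_comp]
    have h3 : sc k X E (a * a) + sc k X E a ≫ n + sc k X E a ≫ n - (sc k X E a + n) = 0 :=
      sub_eq_zero.mpr h2
    rw [← h3]
    abel
  have h4 : sc k X E ((a * a - a) * (a * a - a)) = 0 := by
    have h5 : sc k X E (a * a - a) = - (sc k X E (2 * a - 1) ≫ n) := eq_neg_of_add_eq_zero_left h1
    rw [sc_mul, h5]
    simp only [Preadditive.neg_comp, Preadditive.comp_neg, neg_neg, Category.assoc]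
    rw [← Category.assoc n, hcomm, Category.assoc, hn, comp_zero, comp_zero]
  have h6 : (a * a - a) * (a * a - a) = 0 := eq_zero_of_sc_eq_zero k X hE h4
  have h7 : a * a - a = 0 := mul_self_eq_zero.mp h6
  rw [h7, sc_zero, zero_add] at h1
  have h8 : (2 * a - 1 : k) ≠ 0 := by
    have : a * (a - 1) = 0 := by rw [mul_sub, mul_one]; exact h7
    rcases mul_eq_zero.mp this with h | h
    · rw [h]; simp
    · have : a = 1 := sub_eq_zero.mp h
      rw [this]; norm_num
  have h9 : n = 0 := by
    have := congrArg (fun t => sc k X E (2 * a - 1)⁻¹ ≫ t) h1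
    simp only [comp_zero] at this
    rw [← Category.assoc, sc_inv_comp k X E _ h8, Category.id_comp] at this
    exact this
  rw [h9, add_zero] at hπ
  have : a * (a - 1) = 0 := by rw [mul_sub, mul_one]; exact h7
  rcases mul_eq_zero.mp this with h | h
  · left; rw [hπ, h, sc_zero]
  · right; rw [hπ, sub_eq_zero.mp h, sc_one]

end Groth.Agent.H5.Eig
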