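import Mathlib
import Groth.Agent.Lib.Helper5.Eig.Eig5

set_option autoImplicit false
universe u
open CategoryTheory CategoryTheory.Limits AlgebraicGeometry TopologicalSpace Opposite

namespace Groth.Agent.H5.Eig

open Groth.Agent.LD Groth.Agent.LD.QC Groth.Agent.H5.Curve4

variable (k : Type u) [Field k] (X : Scheme.{u}) [X.Over (Spec (CommRingCat.of k))]
  [IsAlgClosed k] [IsProper (X ↘ Spec (CommRingCat.of k))]
  [Smooth (X ↘ Spec (CommRingCat.of k))] [IsIntegral X]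

/-- structure of the endomorphisms of a non-split extension of `M` by `L` when
`Hom(M, L) ≠ 0`: scalar plus a square-zero map factoring through `M → L`. -/
theorem endo_structure (hdim : topologicalKrullDim X ≤ 1)
    (S : ShortComplex X.Modules) (hS : S.ShortExact)
    (hL : PicF.IsInvertible S.X₁) (hM : PicF.IsInvertible S.X₃)
    (g : S.X₃ ⟶ S.X₁) (hg : g ≠ 0) (hns : ¬ IsSplitEpi S.g) (φ : S.X₂ ⟶ S.X₂) :
    ∃ (a : k) (w : S.X₃ ⟶ S.X₁), φ = sc k X S.X₂ a + S.g ≫ w ≫ S.f := by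
  haveI := hS.mono_f
  haveI := hS.epi_g
  have h1 : (S.f ≫ φ) ≫ S.g = 0 := by
    by_contra hne
    obtain ⟨hle, hiso⟩ := Curve.deg_le_of_ne_zero k X hdim hL hM _ hne
    obtain ⟨hle', -⟩ := Curve.deg_le_of_ne_zero k X hdim hM hL g hg
    haveI : IsIso ((S.f ≫ φ) ≫ S.g) := hiso (le_antisymm hle hle')
    apply hns
    exact ⟨⟨inv ((S.f ≫ φ) ≫ S.g) ≫ S.f ≫ φ, by
      rw [Category.assoc]
      exact IsIso.inv_hom_id _⟩⟩
  let a : S.X₁ ⟶ S.X₁ := hS.exact.lift (S.f ≫ φ) h1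
  have ha : a ≫ S.f = S.f ≫ φ := ShortComplex.Exact.lift_f _ _ _
  obtain ⟨c, hc⟩ := endo_scalar_of_isInvertible k X hdim hL a
  let ψ : S.X₂ ⟶ S.X₂ := φ - sc k X S.X₂ c
  have hψ : S.f ≫ ψ = 0 := by
    change S.f ≫ (φ - sc k X S.X₂ c) = 0
    rw [Preadditive.comp_sub, ← ha, hc, sc_naturality, sub_self]
  let t : S.X₃ ⟶ S.X₂ := hS.exact.desc ψ hψ
  have ht : S.g ≫ t = ψ := ShortComplex.Exact.g_desc _ _ _
  obtain ⟨b, hb⟩ := endo_scalar_of_isInvertible k X hdim hM (t ≫ S.g)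
  have hb0 : b = 0 := by
    by_contra hne
    apply hns
    refine ⟨⟨sc k X S.X₃ b⁻¹ ≫ t, ?_⟩⟩
    rw [Category.assoc, hb, sc_inv_comp k X _ b hne]
  rw [hb0, sc_zero] at hb
  let w : S.X₃ ⟶ S.X₁ := hS.exact.lift t hb
  have hw : w ≫ S.f = t := ShortComplex.Exact.lift_f _ _ _
  refine ⟨c, w, ?_⟩
  rw [hw, ht]
  change φ = sc k X S.X₂ c + (φ - sc k X S.X₂ c)
  abel

/-- **S11819**. -/
theorem indecomposable_not_simple (hdim : topologicalKrullDim X ≤ 1)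
    (S : ShortComplex X.Modules) (hS : S.ShortExact)
    (hL : PicF.IsInvertible S.X₁) (hM : PicF.IsInvertible S.X₃)
    (g : S.X₃ ⟶ S.X₁) (hg : g ≠ 0) (hns : ¬ IsSplitEpi S.g) :
    (¬ IsZero S.X₂ ∧ ∀ (E₁ E₂ : X.Modules), Nonempty (S.X₂ ≅ E₁ ⊞ E₂) → IsZero E₁ ∨ IsZero E₂) ∧
      ∃ φ : S.X₂ ⟶ S.X₂, ∀ c : k, φ ≠ sc k X S.X₂ c := by
  haveI := hS.mono_f
  haveI := hS.epi_g
  have hE : ¬ IsZero S.X₂ := by
    intro hz
    have : IsZero S.X₁ := by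
      rw [IsZero.iff_id_eq_zero, ← cancel_mono S.f]
      exact hz.eq_of_tgt _ _
    exact not_isZero_of_rank_pos X Nat.one_pos ((isInvertible_iff _).mp hL) this
  have hsq : ∀ w : S.X₃ ⟶ S.X₁, (S.g ≫ w ≫ S.f) ≫ (S.g ≫ w ≫ S.f) = 0 := by
    intro w
    simp only [Category.assoc]
    rw [← Category.assoc S.f, S.zero, zero_comp, comp_zero, comp_zero]
  refine ⟨⟨hE, ?_⟩, ?_⟩
  · intro E₁ E₂ ⟨e⟩
    refine indecomposable_of_idem_trivial ?_ E₁ E₂ e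
    intro π hπ
    obtain ⟨a, w, hw⟩ := endo_structure k X hdim S hS hL hM g hg hns π
    exact idem_trivial_of_structure k X hE π a _ (hsq w) hw hπ
  · refine ⟨S.g ≫ g ≫ S.f, fun c hc => ?_⟩
    have h0 : sc k X S.X₂ (c * c) = 0 := by
      rw [sc_mul, ← hc]; exact hsq g
    have hc0 : c = 0 := mul_self_eq_zero.mp (eq_zero_of_sc_eq_zero k X hE h0)
    rw [hc0, sc_zero] at hc
    apply hg
    have h2 : g ≫ S.f = 0 := by
      rw [← cancel_epi S.g, comp_zero]; exact hc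
    rw [← cancel_mono S.f, zero_comp]; exact h2

end Groth.Agent.H5.Eig
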