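import Mathlib
import Groth.Agent.Lib.Helper5.Eig.Eig6
import Groth.Agent.Lib.Helper5.Split.Split3
import Groth.Agent.Lib.Helper5.Curve2.D
import Groth.Agent.Lib.Helper5.Curve3.SmInt

set_option autoImplicit false
universe u
open CategoryTheory CategoryTheory.Limits AlgebraicGeometry TopologicalSpace Opposite

namespace Groth.Agent.H5.Eig

open Groth.Agent.LD Groth.Agent.LD.QC Groth.Agent.H5.Curve4

section Gen
variable {X : Scheme.{u}}

/-- tensoring with an invertible module is faithful (on quasi-coherent modules). -/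
theorem eq_zero_of_tensorMap_eq_zero {L L' : X.Modules} (hL : PicF.IsInvertible L)
    (hL' : PicF.IsInvertible L') (e : CohB1.tensorMod L L' ≅ unitMod X)
    {A B : X.Modules} [A.IsQuasicoherent] [B.IsQuasicoherent] (φ : A ⟶ B)
    (h : KoszTw.tensorMap φ (𝟙 L) = 0) : φ = 0 := by
  haveI : L.IsQuasicoherent := qc_of_isInvertible _ hL
  haveI : L'.IsQuasicoherent := qc_of_isInvertible _ hL'
  have h1 := backIso_naturality L L' e hL hL' φ
  rw [h, tensorMap_zero_id hL', zero_comp] at h1
  rw [← cancel_epi (backIso L L' e A).hom, ← h1, comp_zero]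

/-- a nonzero section of `L ⊗ M⁻¹` gives a nonzero map `M ⟶ L`. -/
theorem exists_hom_ne_zero_of_section {L M M' : X.Modules} (hL : PicF.IsInvertible L)
    (hM : PicF.IsInvertible M) (hM' : PicF.IsInvertible M')
    (e : CohB1.tensorMod M' M ≅ unitMod X)
    (τ : unitMod X ⟶ CohB1.tensorMod L M') (hτ : τ ≠ 0) : ∃ g : M ⟶ L, g ≠ 0 := by
  haveI : L.IsQuasicoherent := qc_of_isInvertible _ hL
  haveI : M.IsQuasicoherent := qc_of_isInvertible _ hM
  haveI : M'.IsQuasicoherent := qc_of_isInvertible _ hM'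
  have hN : PicF.IsInvertible (CohB1.tensorMod L M') := isInvertible_tensorMod hL hM'
  haveI : (CohB1.tensorMod L M').IsQuasicoherent := qc_of_isInvertible _ hN
  haveI : (unitMod X).IsQuasicoherent := qc_of_isInvertible _ (isInvertible_unit X)
  refine ⟨(unitorL' M).inv ≫ KoszTw.tensorMap τ (𝟙 M) ≫ (backIso M' M e L).hom, fun h0 => hτ ?_⟩
  have h1 : KoszTw.tensorMap τ (𝟙 M) = 0 := by
    rw [← cancel_epi (unitorL' M).inv, ← cancel_mono (backIso M' M e L).hom, Category.assoc,
      h0, comp_zero, zero_comp]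
  exact eq_zero_of_tensorMap_eq_zero hM hM' (tensorCommAll M M' ≪≫ e) τ h1

end Gen

end Groth.Agent.H5.Eig
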