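import Mathlib
import Groth.Agent.Lib.Helper1.SmoothReg

set_option autoImplicit false
universe u
open CategoryTheory CategoryTheory.Limits AlgebraicGeometry TopologicalSpace Opposite

namespace Groth.Agent.H5.Eig

/-- a locally finite type scheme over a perfect field all of whose local rings are regular is smooth. -/
theorem smooth_of_regular (k : Type u) [Field k] [PerfectField k] (X : Scheme.{u})
    (f : X ⟶ Spec (CommRingCat.of k)) [LocallyOfFiniteType f]
    (hreg : ∀ x : X, IsRegularLocalRing (X.presheaf.stalk x)) : Smooth f := by
  haveI : LocallyOfFinitePresentation f := inferInstance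
  rw [← Scheme.Hom.smoothLocus_eq_top_iff]
  rw [eq_top_iff]
  intro x _
  exact Groth.Agent.H1.SmoothReg.mem_smoothLocus_of_isRegularLocalRing k f x (hreg x)

end Groth.Agent.H5.Eig
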