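import Mathlib
import Groth.Agent.Lib.Helper5.Eig.Eig2

/-! # Eigenvalue lemma for modules with finite nonzero stalk at a closed point. -/

set_option autoImplicit false
universe u
open CategoryTheory CategoryTheory.Limits AlgebraicGeometry TopologicalSpace Opposite

namespace Groth.Agent.H5.Eig

open Groth.Agent.LD Groth.Agent.LD.QC

section Alg
open TensorProduct

variable {R : Type*} [CommRing R] [IsLocalRing R] {M : Type*} [AddCommGroup M] [Module R M]
  [Module.Finite R M] [Nontrivial M] [IsAlgClosed (IsLocalRing.ResidueField R)]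

/-- an endomorphism of a nonzero finite module over a local ring with algebraically closed
residue field has an eigenvalue modulo the maximal ideal. -/
theorem exists_eigen_residue (g : M →ₗ[R] M) :
    ∃ lam : IsLocalRing.ResidueField R, ∀ c : R, IsLocalRing.residue R c = lam →
      ¬ IsUnit (g - algebraMap R (Module.End R M) c) := by
  let κ := IsLocalRing.ResidueField R
  haveI : Nontrivial (κ ⊗[R] M) := by
    rw [← not_subsingleton_iff_nontrivial, IsLocalRing.subsingleton_tensorProduct]
    exact not_subsingleton M
  obtain ⟨lam, hlam⟩ := Module.End.exists_eigenvalue (g.baseChange κ)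
  refine ⟨lam, fun c hc hu => ?_⟩
  obtain ⟨v, hv⟩ := hlam.exists_hasEigenvector
  obtain ⟨u, hu⟩ := hu
  have h1 : ((↑u⁻¹ : Module.End R M).baseChange κ).comp
      ((g - algebraMap R (Module.End R M) c).baseChange κ) = LinearMap.id := by
    rw [← LinearMap.baseChange_comp, ← hu]
    have : (↑u⁻¹ : Module.End R M).comp (↑u : Module.End R M) = LinearMap.id := by
      change (↑u⁻¹ : Module.End R M) * (↑u : Module.End R M) = 1
      exact Units.inv_mul u
    rw [this, LinearMap.baseChange_id]
  have hsm : ∀ w : κ ⊗[R] M, IsLocalRing.residue R c • w = c • w := by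
    intro w
    induction w using TensorProduct.induction_on with
    | zero => simp
    | tmul a m =>
      rw [TensorProduct.smul_tmul', TensorProduct.smul_tmul']
      congr 1
    | add a b ha hb => rw [smul_add, smul_add, ha, hb]
  have h2 : (g - algebraMap R (Module.End R M) c).baseChange κ v = 0 := by
    rw [LinearMap.baseChange_sub, LinearMap.sub_apply, hv.apply_eq_smul, ← hc]
    have : (algebraMap R (Module.End R M) c).baseChange κ = c • LinearMap.id := by
      ext m
      simp [Algebra.algebraMap_eq_smul_one]
    rw [this]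
    simp only [LinearMap.smul_apply, LinearMap.id_coe, id_eq]
    rw [hsm v, sub_self]
  have h3 := congrArg (fun F => F v) h1
  simp only [LinearMap.comp_apply, LinearMap.id_coe, id_eq] at h3
  rw [h2, map_zero] at h3
  exact hv.2 h3.symm

end Alg

variable {X : Scheme.{u}} {K : Type u} [Field K] [IsAlgClosed K]
    (f : X ⟶ Spec (.of K)) [LocallyOfFiniteType f] (x : X) (hx : IsClosed ({x} : Set X))

include hx in
/-- **eigenvalue lemma** for modules whose stalk at a closed point is finite and nonzero. -/
theorem exists_not_isIso_sub_smul_of_finite (E : X.Modules)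
    [Module.Finite (X.presheaf.stalk x) (E.presheaf.stalk x)]
    [Nontrivial (E.presheaf.stalk x)]
    (φ : E ⟶ E) : ∃ c : K, ¬ IsIso (φ - Ann.smulEnd E (Coh.toGlobal f c)) := by
  classical
  let R := X.presheaf.stalk x
  let M := E.presheaf.stalk x
  let Φ := DerSch.stalkFunctor X x
  let g : M →ₗ[R] M := (Φ.map φ).hom
  have hbij := constRes_bijective f x hx
  haveI : IsAlgClosed (X.residueField x) :=
    IsAlgClosed.of_ringEquiv K _ (RingEquiv.ofBijective (constRes f x) hbij)
  haveI : IsAlgClosed (IsLocalRing.ResidueField R) :=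
    inferInstanceAs (IsAlgClosed (X.residueField x))
  obtain ⟨lam, hlam⟩ := exists_eigen_residue (R := R) (M := M) g
  obtain ⟨c, hc⟩ := hbij.2 lam
  refine ⟨c, fun hiso => ?_⟩
  let c' : R := X.presheaf.germ ⊤ x trivial (Coh.toGlobal f c)
  have hc' : IsLocalRing.residue R c' = lam := hc
  apply hlam c' hc'
  haveI : IsIso (Φ.map (φ - Ann.smulEnd E (Coh.toGlobal f c))) := inferInstance
  let sm : M →ₗ[R] M := (Φ.map (Ann.smulEnd E (Coh.toGlobal f c))).hom
  have hsm : sm = algebraMap R (Module.End R M) c' := by
    ext m
    exact stalk_smulEnd x E _ m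
  have hmap : (Φ.map (φ - Ann.smulEnd E (Coh.toGlobal f c))).hom =
      g - algebraMap R (Module.End R M) c' := by
    rw [Functor.map_sub, ← hsm]
    rfl
  rw [← hmap]
  have hb : Function.Bijective (Φ.map (φ - Ann.smulEnd E (Coh.toGlobal f c))).hom :=
    (ConcreteCategory.isIso_iff_bijective _).1 inferInstance
  exact (Module.End.isUnit_iff _).mpr hb

end Groth.Agent.H5.Eig
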