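import Mathlib
import Groth.Agent.Lib.Helper5.Curve2.M

set_option autoImplicit false
universe u
open CategoryTheory CategoryTheory.Limits AlgebraicGeometry TopologicalSpace Opposite

namespace Groth.Agent.H5.Eig

open Groth.Agent.LD Groth.Agent.LD.QC

variable (k : Type u) [Field k] (X : Scheme.{u}) [X.Over (Spec (CommRingCat.of k))]
  [IsProper (X ↘ Spec (CommRingCat.of k))] [IsIntegral X]

/-- on a curve of positive genus, `h⁰(N) ≤ deg N` for an invertible module of positive degree. -/
theorem finrank_H0_le_deg_of_genus_pos (hdim : topologicalKrullDim X ≤ 1)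
    (h0 : Module.finrank k (Coh.HH X (Coh.structureModule X) 0) = 1)
    (hg : Curv2.genus k X ≠ 0) {N : X.Modules} (hN : PicF.IsInvertible N)
    (hdeg : 0 < Curv2.deg k X N 1) :
    (Module.finrank k (Coh.HH X N 0) : ℤ) ≤ Curv2.deg k X N 1 := by
  by_cases hz : Module.finrank k (Coh.HH X N 0) = 0
  · rw [hz]; exact_mod_cast hdeg.le
  · have hnt : Nontrivial (Coh.HH X N 0) := Module.nontrivial_of_finrank_pos (Nat.pos_of_ne_zero hz)
    obtain ⟨s, hs⟩ := Curve2.exists_section_ne_zero_of_nontrivial_H0 k X N hnt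
    obtain ⟨hle, -⟩ := Curve2.finrank_H0_le_deg_add_one k X hdim h0 hN s hs
    by_contra hcon
    have heq : (Module.finrank k (Coh.HH X N 0) : ℤ) = Curv2.deg k X N 1 + 1 := by omega
    exact hg (Curve2.genus_eq_zero_of_max k X hdim h0 hN s hs heq hdeg)

/-- **on a curve of genus one, `H¹(N) = 0` for an invertible module of positive degree.** -/
theorem subsingleton_H1_of_genus_one (hdim : topologicalKrullDim X ≤ 1)
    (h0 : Module.finrank k (Coh.HH X (Coh.structureModule X) 0) = 1)
    (hg : Curv2.genus k X = 1) {N : X.Modules} (hN : PicF.IsInvertible N)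
    (hdeg : 0 < Curv2.deg k X N 1) : Subsingleton (Coh.HH X N 1) := by
  haveI := Curve.isLocallyNoetherian k X
  haveI : N.IsQuasicoherent := qc_of_isInvertible _ hN
  haveI : (unitMod X).IsQuasicoherent := qc_of_isInvertible _ (isInvertible_unit X)
  have hNc := Curve2.isCoh_of_isInvertible hN
  haveI := Curve.finite_HH k X _ hNc 1
  have hle := finrank_H0_le_deg_of_genus_pos k X hdim h0 (by rw [hg]; norm_num) hN hdeg
  have r1 := Curve.euler_eq_sub k X hdim N
  have r2 := Curve.euler_eq_sub k X hdim (unitMod X)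
  have hO : Module.finrank k (Coh.HH X (unitMod X) 0) = 1 := h0
  have hg' : Module.finrank k (Coh.HH X (unitMod X) 1) = 1 := hg
  have d5 : Curv2.deg k X N 1 = Curv2.euler k X N - Curv2.euler k X (unitMod X) := by
    unfold Curv2.deg
    push_cast
    ring_nf
  rw [hO, hg'] at r2
  have hz : Module.finrank k (Coh.HH X N 1) = 0 := by
    have : (Module.finrank k (Coh.HH X N 1) : ℤ) ≤ 0 := by
      push_cast at r1 r2
      linarith
    omega
  exact Module.finrank_zero_iff.mp hz

end Groth.Agent.H5.Eig
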