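import Mathlib

set_option autoImplicit false
universe v u
open CategoryTheory CategoryTheory.Limits

namespace Groth.Agent.H5.Fit

variable {C : Type u} [Category.{v} C] [Abelian C]

/-- if `ker g² ⊆ ker g` then the induced endomorphism of the image of `g` is a monomorphism. -/
theorem mono_image_endo {E : C} (g : E ⟶ E) (h : kernel.ι (g ≫ g) ≫ g = 0) :
    Mono (Abelian.factorThruCoimage g ≫ Abelian.coimage.π g) := by
  let p := Abelian.coimage.π g
  let j := Abelian.factorThruCoimage g
  have hfac : p ≫ j = g := Abelian.coimage.fac g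
  apply Preadditive.mono_of_cancel_zero
  intro T t ht
  have hc : pullback.fst p t ≫ p = pullback.snd p t ≫ t := pullback.condition
  have h1 : pullback.fst p t ≫ g ≫ g = 0 := by
    have hgg : g ≫ g = (p ≫ j) ≫ p ≫ j := by rw [hfac]
    rw [hgg]
    calc pullback.fst p t ≫ (p ≫ j) ≫ p ≫ j
        = (pullback.fst p t ≫ p) ≫ (j ≫ p) ≫ j := by simp only [Category.assoc]
      _ = pullback.snd p t ≫ (t ≫ j ≫ p) ≫ j := by rw [hc]; simp only [Category.assoc]
      _ = 0 := by rw [ht, zero_comp, comp_zero]
  have h2 : pullback.fst p t ≫ g = 0 := by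
    rw [← kernel.lift_ι (g ≫ g) _ h1, Category.assoc, h, comp_zero]
  have h3 : pullback.fst p t ≫ p = 0 := by
    rw [← cancel_mono j, Category.assoc, hfac, h2, zero_comp]
  have h4 : pullback.snd p t ≫ t = 0 := by rw [← hc, h3]
  haveI : Epi (pullback.snd p t) := inferInstance
  rw [← cancel_epi (pullback.snd p t), h4, comp_zero]

/-- if the induced endomorphism of the image of `g` is an isomorphism, `E` splits as
`ker g ⊕ im g`. -/
theorem nonempty_iso_biprod_of_isIso {E : C} (g : E ⟶ E)
    (h : IsIso (Abelian.factorThruCoimage g ≫ Abelian.coimage.π g)) :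
    Nonempty (E ≅ kernel g ⊞ Abelian.coimage g) := by
  let p := Abelian.coimage.π g
  let j := Abelian.factorThruCoimage g
  let S : ShortComplex C := ShortComplex.mk (kernel.ι g) p (cokernel.condition _)
  have hS : S.Exact := ShortComplex.exact_cokernel (kernel.ι g)
  let s : Abelian.coimage g ⟶ E := inv (j ≫ p) ≫ j
  have hs : s ≫ S.g = 𝟙 _ := by
    change (inv (j ≫ p) ≫ j) ≫ p = 𝟙 _
    rw [Category.assoc, IsIso.inv_hom_id]
  haveI : Mono S.f := inferInstanceAs (Mono (kernel.ι g))
  let sp : S.Splitting := ShortComplex.Splitting.ofExactOfSection S hS s hs inferInstance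
  exact ⟨sp.isoBinaryBiproduct⟩

end Groth.Agent.H5.Fit
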