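import Mathlib
import Groth.Agent.Lib.Helper5.Eig.Fit1
import Groth.Agent.Lib.Helper5.Curve4.VB5

set_option autoImplicit false
universe u
open CategoryTheory CategoryTheory.Limits AlgebraicGeometry TopologicalSpace Opposite

namespace Groth.Agent.H5.Fit

open Groth.Agent.LD Groth.Agent.LD.QC Groth.Agent.H5.Curve4

section Pow
variable {X : Scheme.{u}} (x : X)

/-- the stalk map of an endomorphism as a linear endomorphism. -/
noncomputable def hmap {E : X.Modules} (φ : E ⟶ E) :
    E.presheaf.stalk x →ₗ[X.presheaf.stalk x] E.presheaf.stalk x :=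
  ((DerSch.stalkFunctor X x).map φ).hom

lemma hmap_id (E : X.Modules) : hmap x (𝟙 E) = 1 := by
  unfold hmap
  rw [CategoryTheory.Functor.map_id]
  rfl

lemma hmap_comp {E : X.Modules} (φ ψ : E ⟶ E) : hmap x (φ ≫ ψ) = hmap x ψ * hmap x φ := by
  unfold hmap
  rw [CategoryTheory.Functor.map_comp]
  rfl

/-- the stalk functor takes powers of endomorphisms to powers. -/
theorem hmap_pow {E : X.Modules} (φ : E ⟶ E) (n : ℕ) :
    hmap x ((show End E from φ) ^ n : End E) = (hmap x φ) ^ n := by
  induction n with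
  | zero =>
    rw [pow_zero, pow_zero]
    exact hmap_id x E
  | succ n ih =>
    rw [pow_succ, pow_succ, End.mul_def, hmap_comp, ih]

end Pow

variable (k : Type u) [Field k] (X : Scheme.{u}) [X.Over (Spec (CommRingCat.of k))]
  [IsProper (X ↘ Spec (CommRingCat.of k))] [Smooth (X ↘ Spec (CommRingCat.of k))] [IsIntegral X]

include k in
/-- a map from a coherent module to a vector bundle which vanishes at the generic point is
zero. -/
theorem hom_eq_zero_of_generic (hdim : topologicalKrullDim X ≤ 1) {F E : X.Modules}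
    (hF : Coh.IsCoh F) (r : ℕ) (hE : FlatMod.IsFinLocFreeOfRank r E) (ψ : F ⟶ E)
    (h : (DerSch.stalkFunctor X (genericPoint X)).map ψ = 0) : ψ = 0 := by
  haveI := Curve.isLocallyNoetherian k X
  have hEc := Curve.isCoh_of_rank hE
  have hKc : Coh.IsCoh (kernel ψ) := isCoh_kernel ψ hF hEc
  have hIc : Coh.IsCoh (Abelian.coimage ψ) := isCoh_cokernel (kernel.ι ψ) hKc hF
  obtain ⟨b, hb⟩ := exists_rank_of_mono k X hdim (Abelian.factorThruCoimage ψ) hIc
    (Curve.isFinLocFree_of_rank hE)
  let Φ := DerSch.stalkFunctor X (genericPoint X)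
  haveI : Mono (Φ.map (Abelian.factorThruCoimage ψ)) := Φ.map_mono _
  haveI : Epi (Φ.map (Abelian.coimage.π ψ)) := Φ.map_epi _
  have h1 : Φ.map (Abelian.coimage.π ψ) = 0 := by
    rw [← cancel_mono (Φ.map (Abelian.factorThruCoimage ψ)), ← Φ.map_comp,
      Abelian.coimage.fac, zero_comp]
    exact h
  have hz : IsZero (Φ.obj (Abelian.coimage ψ)) := IsZero.of_epi_eq_zero _ h1
  obtain ⟨f1, fin1, rk1⟩ := Groth.Agent.H4.LFP1.stalk_of_isFinLocFreeOfRank b _ hb (genericPoint X)
  haveI := f1
  haveI := fin1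
  haveI : Subsingleton ((Abelian.coimage ψ).presheaf.stalk (genericPoint X)) :=
    ModuleCat.subsingleton_of_isZero hz
  have hb0 : b = 0 := by
    rw [← rk1]
    exact (Module.finrank_eq_zero_iff_of_free (X.presheaf.stalk (genericPoint X))
      ((Abelian.coimage ψ).presheaf.stalk (genericPoint X))).mpr inferInstance
  subst hb0
  have hz2 : IsZero (Abelian.coimage ψ) := isZero_of_rank_zero hb
  rw [← Abelian.coimage.fac ψ, hz2.eq_of_tgt (Abelian.coimage.π ψ) 0, zero_comp]

end Groth.Agent.H5.Fit
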