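import Mathlib
import Groth.Agent.Lib.Helper5.Eig.Fit2

set_option autoImplicit false
universe u
open CategoryTheory CategoryTheory.Limits AlgebraicGeometry TopologicalSpace Opposite

namespace Groth.Agent.H5.Fit

open Groth.Agent.LD Groth.Agent.LD.QC Groth.Agent.H5.Curve4

section LinAlg

/-- linear algebra: kernels of powers stabilise at the dimension. -/
theorem pow_apply_eq_zero_of_sq {K V : Type*} [Field K] [AddCommGroup V] [Module K V]
    [Module.Finite K V] (h : V →ₗ[K] V) (r : ℕ) (hr : Module.finrank K V = r) (v : V)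
    (hv : (h ^ r) ((h ^ r) v) = 0) : (h ^ r) v = 0 := by
  have h1 : v ∈ LinearMap.ker (h ^ (r + r)) := by
    rw [LinearMap.mem_ker, pow_add]
    exact hv
  have h2 := Module.End.ker_pow_le_ker_pow_finrank h (r + r) h1
  rw [hr] at h2
  exact h2

end LinAlg

variable (k : Type u) [Field k] (X : Scheme.{u}) [X.Over (Spec (CommRingCat.of k))]
  [IsProper (X ↘ Spec (CommRingCat.of k))] [Smooth (X ↘ Spec (CommRingCat.of k))] [IsIntegral X]

include k in
/-- `ker g² ⊆ ker g` for `g = φ ^ r`, `r` the rank. -/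
theorem kernel_sq_comp_eq_zero (hdim : topologicalKrullDim X ≤ 1) {E : X.Modules} (r : ℕ)
    (hE : FlatMod.IsFinLocFreeOfRank r E) (φ : E ⟶ E) (g : E ⟶ E)
    (hg : g = ((show End E from φ) ^ r : End E)) :
    kernel.ι (g ≫ g) ≫ g = 0 := by
  haveI := Curve.isLocallyNoetherian k X
  have hEc := Curve.isCoh_of_rank hE
  have hKc : Coh.IsCoh (kernel (g ≫ g)) := isCoh_kernel (g ≫ g) hEc hEc
  apply hom_eq_zero_of_generic k X hdim hKc r hE
  let η := genericPoint X
  let Φ := DerSch.stalkFunctor X η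
  obtain ⟨f1, fin1, rk1⟩ := Groth.Agent.H4.LFP1.stalk_of_isFinLocFreeOfRank r E hE η
  have hkey : ∀ v : E.presheaf.stalk η, (hmap η g) ((hmap η g) v) = 0 → (hmap η g) v = 0 := by
    intro v hv
    rw [hg, hmap_pow] at hv ⊢
    letI : Field (X.presheaf.stalk η) := inferInstanceAs (Field X.functionField)
    haveI : Module.Finite (X.presheaf.stalk η) (E.presheaf.stalk η) := fin1
    exact pow_apply_eq_zero_of_sq (hmap η φ) r rk1 v hv
  rw [Φ.map_comp]
  ext m
  have h0 : kernel.ι (g ≫ g) ≫ g ≫ g = 0 := kernel.condition _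
  have h1 : (Φ.map (kernel.ι (g ≫ g) ≫ g ≫ g)).hom m = 0 := by rw [h0, Φ.map_zero]; rfl
  rw [Φ.map_comp, Φ.map_comp] at h1
  exact hkey ((Φ.map (kernel.ι (g ≫ g))).hom m) h1

end Groth.Agent.H5.Fit
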