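import Mathlib
import Groth.Agent.Lib.Helper5.Eig.Fit3
import Groth.Agent.Lib.Helper5.Eig.Eig6

set_option autoImplicit false
universe u
open CategoryTheory CategoryTheory.Limits AlgebraicGeometry TopologicalSpace Opposite

namespace Groth.Agent.H5.Fit

open Groth.Agent.LD Groth.Agent.LD.QC Groth.Agent.H5.Curve4 Groth.Agent.H5.Eig

variable (k : Type u) [Field k] (X : Scheme.{u}) [X.Over (Spec (CommRingCat.of k))]
  [IsProper (X ↘ Spec (CommRingCat.of k))] [Smooth (X ↘ Spec (CommRingCat.of k))] [IsIntegral X]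

include k in
/-- **Fitting's lemma** for an indecomposable vector bundle on a smooth proper curve: every
endomorphism is an isomorphism or nilpotent. -/
theorem isIso_or_nilpotent (hdim : topologicalKrullDim X ≤ 1) {E : X.Modules} (r : ℕ)
    (hr : 0 < r) (hE : FlatMod.IsFinLocFreeOfRank r E)
    (hind : ∀ (E₁ E₂ : X.Modules), Nonempty (E ≅ E₁ ⊞ E₂) → IsZero E₁ ∨ IsZero E₂)
    (φ : E ⟶ E) : IsIso φ ∨ ((show End E from φ) ^ r : End E) = 0 := by
  let g : E ⟶ E := ((show End E from φ) ^ r : End E)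
  have h := kernel_sq_comp_eq_zero k X hdim r hE φ g rfl
  haveI hm : Mono (Abelian.factorThruCoimage g ≫ Abelian.coimage.π g) := mono_image_endo g h
  obtain ⟨a, b, hab, ha, hb, hdeg⟩ := kernel_image_facts k X hdim r r hE hE g
  have hiso : IsIso (Abelian.factorThruCoimage g ≫ Abelian.coimage.π g) :=
    (Curve.deg_le_of_mono k X hdim b hb hb _).2 rfl
  obtain ⟨e⟩ := nonempty_iso_biprod_of_isIso g hiso
  rcases hind _ _ ⟨e⟩ with hz | hz
  · left
    haveI : Mono g := Preadditive.mono_of_isZero_kernel g hz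
    haveI : IsIso g := (Curve.deg_le_of_mono k X hdim r hE hE g).2 rfl
    have hu : IsUnit ((show End E from φ) ^ r : End E) := (isUnit_iff_isIso (X := E) g).mpr inferInstance
    exact (isUnit_iff_isIso (X := E) φ).mp ((isUnit_pow_iff hr.ne').mp hu)
  · right
    change g = 0
    rw [← Abelian.coimage.fac g, hz.eq_of_tgt (Abelian.coimage.π g) 0, zero_comp]

end Groth.Agent.H5.Fit
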