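import Mathlib
import Groth.Agent.Lib.Helper5.Eig.Fit4

set_option autoImplicit false
universe u
open CategoryTheory CategoryTheory.Limits AlgebraicGeometry TopologicalSpace Opposite

namespace Groth.Agent.H5.Fit

open Groth.Agent.LD Groth.Agent.LD.QC Groth.Agent.H5.Curve4 Groth.Agent.H5.Eig

variable (k : Type u) [Field k] (X : Scheme.{u}) [X.Over (Spec (CommRingCat.of k))]
  [IsProper (X ↘ Spec (CommRingCat.of k))] [Smooth (X ↘ Spec (CommRingCat.of k))] [IsIntegral X]

include k in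
/-- **S11820**: indecomposable iff the endomorphism ring is local. -/
theorem indecomposable_iff_local (hdim : topologicalKrullDim X ≤ 1) {E : X.Modules} (r : ℕ)
    (hr : 0 < r) (hE : FlatMod.IsFinLocFreeOfRank r E) :
    (¬ IsZero E ∧ ∀ (E₁ E₂ : X.Modules), Nonempty (E ≅ E₁ ⊞ E₂) → IsZero E₁ ∨ IsZero E₂) ↔
      ∀ f₁ f₂ : E ⟶ E, IsIso (f₁ + f₂) → IsIso f₁ ∨ IsIso f₂ := by
  constructor
  · rintro ⟨-, hind⟩ f₁ f₂ hu
    let w : E ⟶ E := inv (f₁ + f₂)
    let a₁ : End E := f₁ ≫ w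
    let a₂ : End E := f₂ ≫ w
    have hsum : a₁ + a₂ = 1 := by
      change f₁ ≫ w + f₂ ≫ w = 𝟙 E
      rw [← Preadditive.add_comp]
      exact IsIso.hom_inv_id _
    have hf₁ : f₁ = a₁ ≫ (f₁ + f₂) := by
      change f₁ = (f₁ ≫ w) ≫ (f₁ + f₂)
      rw [Category.assoc, IsIso.inv_hom_id, Category.comp_id]
    have hf₂ : f₂ = a₂ ≫ (f₁ + f₂) := by
      change f₂ = (f₂ ≫ w) ≫ (f₁ + f₂)
      rw [Category.assoc, IsIso.inv_hom_id, Category.comp_id]
    rcases isIso_or_nilpotent k X hdim r hr hE hind a₁ with h | h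
    · left
      haveI : IsIso (show E ⟶ E from a₁) := h
      rw [hf₁]
      exact IsIso.comp_isIso
    · right
      have hnil : IsNilpotent a₁ := ⟨r, h⟩
      have h2 : a₂ = 1 - a₁ := eq_sub_of_add_eq' hsum
      have hu2 : IsUnit a₂ := h2 ▸ hnil.isUnit_one_sub
      haveI : IsIso (show E ⟶ E from a₂) := (isUnit_iff_isIso (X := E) a₂).mp hu2
      rw [hf₂]
      exact IsIso.comp_isIso
  · intro hP
    refine ⟨not_isZero_of_rank_pos X hr hE, fun E₁ E₂ ⟨e⟩ => ?_⟩
    refine indecomposable_of_idem_trivial ?_ E₁ E₂ e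
    intro π hπ
    have h1 : IsIso (π + (𝟙 E - π)) := by
      have : π + (𝟙 E - π) = 𝟙 E := by abel
      rw [this]; infer_instance
    rcases hP π (𝟙 E - π) h1 with h | h
    · right
      haveI := h
      rw [← cancel_epi π, hπ, Category.comp_id]
    · left
      haveI := h
      rw [← cancel_epi (𝟙 E - π), Preadditive.sub_comp, Category.id_comp, hπ, sub_self, comp_zero]

end Groth.Agent.H5.Fit

namespace Groth.Agent.H5.Fit

open Groth.Agent.LD Groth.Agent.LD.QC Groth.Agent.H5.Curve4 Groth.Agent.H5.Eig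

variable (k : Type u) [Field k] (X : Scheme.{u}) [X.Over (Spec (CommRingCat.of k))]
  [IsProper (X ↘ Spec (CommRingCat.of k))] [Smooth (X ↘ Spec (CommRingCat.of k))] [IsIntegral X]

/-- **S11821**: an endomorphism of an indecomposable bundle has at most one eigenvalue. -/
theorem eigenvalue_unique (hdim : topologicalKrullDim X ≤ 1) {E : X.Modules} (r : ℕ)
    (hr : 0 < r) (hE : FlatMod.IsFinLocFreeOfRank r E)
    (hind : ∀ (E₁ E₂ : X.Modules), Nonempty (E ≅ E₁ ⊞ E₂) → IsZero E₁ ∨ IsZero E₂)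
    (f : E ⟶ E) (a b : k) (ha : ¬ IsIso (f - sc k X E a)) (hb : ¬ IsIso (f - sc k X E b)) :
    a = b := by
  by_contra hab
  have hab' : a - b ≠ 0 := sub_ne_zero.mpr hab
  let n₁ : End E := f - sc k X E a
  let u : End E := sc k X E (a - b)
  have hnil : IsNilpotent n₁ := by
    rcases isIso_or_nilpotent k X hdim r hr hE hind n₁ with h | h
    · exact absurd h ha
    · exact ⟨r, h⟩
  have hu : IsUnit u := by
    refine (isUnit_iff_isIso (X := E) u).mpr ⟨sc k X E (a - b)⁻¹, ?_, ?_⟩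
    · change sc k X E (a - b) ≫ sc k X E (a - b)⁻¹ = 𝟙 E
      rw [← sc_mul, inv_mul_cancel₀ hab', sc_one]
    · exact sc_inv_comp k X E _ hab'
  have hcomm : Commute n₁ u := by
    change u ≫ n₁ = n₁ ≫ u
    exact sc_naturality k X (show E ⟶ E from n₁) (a - b)
  have h2 := hnil.isUnit_add_right_of_commute hu hcomm
  have h3 : n₁ + u = (show End E from f - sc k X E b) := by
    change f - sc k X E a + sc k X E (a - b) = f - sc k X E b
    rw [sc_sub]; abel
  rw [h3] at h2
  exact hb ((isUnit_iff_isIso (X := E) _).mp h2)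

end Groth.Agent.H5.Fit
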