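import Mathlib
import Groth.Prelude.Def_KLin
import Groth.Prelude.Def_Curve
import Groth.Agent.Lib.Helper5.Eig.Eig6

set_option autoImplicit false
universe u
open CategoryTheory CategoryTheory.Limits AlgebraicGeometry TopologicalSpace Opposite

namespace Groth.Agent.H5.Eig

open Groth.Agent.LD Groth.Agent.LD.QC Groth.Agent.H5.Curve4

variable (k : Type u) [Field k] (X : Scheme.{u}) [X.Over (Spec (CommRingCat.of k))]

/-- the scalar endomorphism is the `k`-linear structure's scalar multiple of the identity. -/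
theorem sc_eq_smul_id (M : X.Modules) (a : k) : sc k X M a = a • 𝟙 M := by
  rw [KLin.smul_id]
  rfl

/-- **S19668**. -/
theorem endo_eq_smul_id_of_stable [IsAlgClosed k]
    (hX : Curve.IsSmoothProperCurve k X (X ↘ Spec (CommRingCat.of k))) (r : ℕ)
    (E : X.Modules) (hE : FlatMod.IsFinLocFreeOfRank r E)
    (hst : ∀ (G : X.Modules) (s : ℕ) (ι : G ⟶ E), Mono ι → FlatMod.IsFinLocFreeOfRank s G → 0 < s → s < r →
      Curv2.deg k X G s * (r : ℤ) < Curv2.deg k X E r * (s : ℤ))
    (φ : E ⟶ E) : ∃ a : k, φ = a • 𝟙 E := by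
  obtain ⟨h1, h2, h3, h4⟩ := hX
  haveI := h1
  haveI := h2
  haveI := h3
  rcases Nat.eq_zero_or_pos r with h0 | hr
  · subst h0
    have hz : IsZero E := isZero_of_rank_zero hE
    exact ⟨0, hz.eq_of_src _ _⟩
  · obtain ⟨c, hc⟩ := endo_scalar_of_stable k X h4.le r hr hE
      (fun F r' i hi h1 h2 hF => hst F r' i hi hF h1 h2) φ
    exact ⟨c, by rw [hc]; exact sc_eq_smul_id k X E c⟩

end Groth.Agent.H5.Eig
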