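import Mathlib
import Groth.Agent.Lib.Helper5.Eig.Genus1b
import Groth.Agent.Lib.Helper5.Eig.RegSm
import Groth.Agent.Lib.Helper5.Curve4.H0Bound

set_option autoImplicit false
universe u
open CategoryTheory CategoryTheory.Limits AlgebraicGeometry TopologicalSpace Opposite

namespace Groth.Agent.H5.Eig

open Groth.Agent.LD Groth.Agent.LD.QC Groth.Agent.H5.Curve4

variable (k : Type u) [Field k] (X : Scheme.{u}) [X.Over (Spec (CommRingCat.of k))]
  [IsProper (X ↘ Spec (CommRingCat.of k))] [IsIntegral X]

/-- the vanishing half of the normalisation condition. -/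
def NegVanish (E : X.Modules) : Prop :=
  ∀ M : X.Modules, PicF.IsInvertible M → Curv2.deg k X M 1 < 0 →
    Subsingleton (Coh.HH X (CohB1.tensorMod E M) 0)

/-- a normalised module has no invertible submodule of positive degree. -/
theorem deg_le_zero_of_negVanish (hdim : topologicalKrullDim X ≤ 1) {E : X.Modules}
    (hneg : NegVanish k X E) {G : X.Modules} (hG : PicF.IsInvertible G) (i : G ⟶ E) [Mono i] :
    Curv2.deg k X G 1 ≤ 0 := by
  by_contra hcon
  push Not at hcon
  obtain ⟨G', hG', ⟨e₀⟩⟩ := Groth.Agent.H5.Glue.exists_inverse G hG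
  have d2 := Curve2.deg_tensor k X hdim hG hG'
  have d3 : Curv2.deg k X (CohB1.tensorMod G G') 1 = 0 := by
    rw [Curve.deg_iso k X e₀ 1]; exact Curve.deg_structureModule k X
  have hss := hneg G' hG' (by linarith)
  haveI := mono_tensorMap_of_isInvertible i G' hG'
  have hinj := Curve2.injective_HHmap_zero k (KoszTw.tensorMap i (𝟙 G'))
  haveI : Subsingleton (Coh.HH X (CohB1.tensorMod G G') 0) := hinj.subsingleton
  have h1 := Curve2.finrank_HH_iso k X e₀ 0
  have h2 : Module.finrank k (Coh.HH X (CohB1.tensorMod G G') 0) = 0 :=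
    Module.finrank_zero_of_subsingleton
  have h3 := one_le_finrank_HH0 k X
  have h4 : Module.finrank k (Coh.HH X (unitMod X) 0) =
      Module.finrank k (Coh.HH X (Coh.structureModule X) 0) := rfl
  omega

variable [Smooth (X ↘ Spec (CommRingCat.of k))]

/-- **S12430**: the cokernel of a nonzero section of a normalised rank two bundle is invertible. -/
theorem isInvertible_cokernel_section (hdim : topologicalKrullDim X ≤ 1) {E : X.Modules}
    (hE : FlatMod.IsFinLocFreeOfRank 2 E) (hneg : NegVanish k X E)
    (s : unitMod X ⟶ E) (hs : s ≠ 0) : PicF.IsInvertible (cokernel s) := by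
  haveI := mono_of_section_ne_zero k X hdim 2 hE s hs
  have hO : FlatMod.IsFinLocFreeOfRank 1 (unitMod X) := (isInvertible_iff _).mp (isInvertible_unit X)
  obtain ⟨G', i', j, t, hmono, hji, hG', hQ, hrs, hdle, hiso, -⟩ :=
    exists_saturation k X hdim s 1 2 hO hE
  haveI := hmono
  have ht : t = 1 := by omega
  subst ht
  have hG'inv : PicF.IsInvertible G' := (isInvertible_iff _).mpr hG'
  have h1 := deg_le_zero_of_negVanish k X hdim hneg hG'inv i'
  have h0 : Curv2.deg k X (unitMod X) 1 = 0 := Curve.deg_structureModule k X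
  haveI : IsIso j := hiso (by linarith)
  let e3 : cokernel s ≅ cokernel (j ≫ i') := cokernelIsoOfEq hji.symm
  let e4 : cokernel (j ≫ i') ≅ cokernel i' := cokernelEpiComp _ _
  exact (isInvertible_iff _).mpr (isFinLocFreeOfRank_of_iso (e3 ≪≫ e4).symm hQ)

end Groth.Agent.H5.Eig
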