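import Mathlib
import Groth.Agent.Lib.Helper5.Eig.Norm1

set_option autoImplicit false
universe u
open CategoryTheory CategoryTheory.Limits AlgebraicGeometry TopologicalSpace Opposite

namespace Groth.Agent.H5.Eig

open Groth.Agent.LD Groth.Agent.LD.QC Groth.Agent.H5.Curve4

variable (k : Type u) [Field k] (X : Scheme.{u}) [X.Over (Spec (CommRingCat.of k))]
  [IsProper (X ↘ Spec (CommRingCat.of k))] [IsIntegral X]

/-- **S11353**: a decomposable normalised rank two bundle is `O ⊕ L` with `deg L ≤ 0`. -/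
theorem normalized_decomposable (hdim : topologicalKrullDim X ≤ 1) {E L₁ L₂ : X.Modules}
    (hL₁ : PicF.IsInvertible L₁) (hL₂ : PicF.IsInvertible L₂) (e : E ≅ L₁ ⊞ L₂)
    (hn0 : Nontrivial (Coh.HH X E 0)) (hneg : NegVanish k X E) :
    ∃ L : X.Modules, PicF.IsInvertible L ∧ Curv2.deg k X L 1 ≤ 0 ∧
      Nonempty (E ≅ unitMod X ⊞ L) := by
  haveI : Mono (biprod.inl ≫ e.inv : L₁ ⟶ E) := mono_comp _ _
  haveI : Mono (biprod.inr ≫ e.inv : L₂ ⟶ E) := mono_comp _ _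
  have d₁ := deg_le_zero_of_negVanish k X hdim hneg hL₁ (biprod.inl ≫ e.inv)
  have d₂ := deg_le_zero_of_negVanish k X hdim hneg hL₂ (biprod.inr ≫ e.inv)
  obtain ⟨σ, hσ⟩ := Curve2.exists_section_ne_zero_of_nontrivial_H0 k X E hn0
  have h0 : Curv2.deg k X (unitMod X) 1 = 0 := Curve.deg_structureModule k X
  by_cases h₁ : σ ≫ e.hom ≫ biprod.fst = 0
  · have h₂ : σ ≫ e.hom ≫ biprod.snd ≠ 0 := by
      intro h₂
      apply hσ
      rw [← cancel_mono e.hom, zero_comp]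
      apply biprod.hom_ext
      · rw [Category.assoc, h₁, zero_comp]
      · rw [Category.assoc, h₂, zero_comp]
    obtain ⟨hle, hiso⟩ := Curve.deg_le_of_ne_zero k X hdim (isInvertible_unit X) hL₂ _ h₂
    haveI : IsIso (σ ≫ e.hom ≫ biprod.snd) := hiso (by linarith)
    exact ⟨L₁, hL₁, d₁, ⟨e ≪≫ biprod.braiding L₁ L₂ ≪≫
      biprod.mapIso (asIso (σ ≫ e.hom ≫ biprod.snd)).symm (Iso.refl L₁)⟩⟩
  · obtain ⟨hle, hiso⟩ := Curve.deg_le_of_ne_zero k X hdim (isInvertible_unit X) hL₁ _ h₁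
    haveI : IsIso (σ ≫ e.hom ≫ biprod.fst) := hiso (by linarith)
    exact ⟨L₂, hL₂, d₂, ⟨e ≪≫
      biprod.mapIso (asIso (σ ≫ e.hom ≫ biprod.fst)).symm (Iso.refl L₂)⟩⟩

end Groth.Agent.H5.Eig
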